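import Mathlib
import Cfsg.Agent.H309.NS.MixThree
import Cfsg.Agent.H309.NS.TwoThree
import Cfsg.Agent.H275.NSM4

/-!
# No minimal counterexample for `p = 3`
-/

set_option autoImplicit false
set_option linter.unusedSectionVars false

namespace Cfsg.Agent.H309.NS

open Subgroup
open Cfsg (IsElementaryAbelian IsSignalizerFunctor signalizerInf piCoreOf)

universe u

/-- **No minimal counterexample for `p = 3`**, from (F7) -/
theorem no_minC_three {G : Type u} [Group G] [Finite G] {A : Subgroup G} {θ : G → Subgroup G}
    (hlay : Group.IsSolvable (signalizerInf A θ) →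
      ∀ x ∈ A, x ≠ 1 → ∀ M, Mem 3 A θ M → θ x ≤ M → Lay M ≤ centralizer {x})
    (h : MinC 3 A θ) : False := by
  have : Fact (Nat.Prime 3) := ⟨Nat.prime_three⟩
  by_cases hs : Group.IsSolvable (signalizerInf A θ)
  · exact near_false h hs (hlay hs) fun D hD a ha ha1 => H275.NS.m4_three h (nearS_three h hs) hD ha ha1
  · exact mix_false_three h hs

end Cfsg.Agent.H309.NS
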